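import Mathlib
import Groth.Agent.Lib.Helper6.PtExt.PEb

/-!
# Torsors under affine group schemes over an algebraically closed field (helper6)

Part 1: generic lemmas on subalgebras `X' ⊗ Y` of a tensor product `X ⊗ Y` over a field.
-/

set_option autoImplicit false
set_option linter.unusedSectionVars false
set_option linter.unusedVariables false
set_option linter.unusedSimpArgs false
set_option linter.style.haveILetI false
set_option linter.overlappingInstances false
set_option maxHeartbeats 800000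
set_option synthInstance.maxHeartbeats 400000

noncomputable section

namespace Groth.Agent.Lib.Helper6.PTors

open TensorProduct

universe u v w

variable {k : Type u} [Field k] {X : Type v} [CommRing X] [Algebra k X]
  (Y : Type w) [CommRing Y] [Algebra k Y]

/-- `X' ⊗ Y` inside `X ⊗ Y` -/
def T (X' : Subalgebra k X) : Subalgebra k (X ⊗[k] Y) :=
  (Algebra.TensorProduct.map X'.val (AlgHom.id k Y)).range

lemma T_eq (X' : Subalgebra k X) :
    T Y X' = X'.map (Algebra.TensorProduct.includeLeft : X →ₐ[k] X ⊗[k] Y) ⊔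
      (Algebra.TensorProduct.includeRight : Y →ₐ[k] X ⊗[k] Y).range := by
  unfold T
  rw [Algebra.TensorProduct.map_range, AlgHom.comp_id, AlgHom.range_comp, Subalgebra.range_val]

lemma T_mono {X₁ X₂ : Subalgebra k X} (h : X₁ ≤ X₂) : T Y X₁ ≤ T Y X₂ := by
  rw [T_eq, T_eq]
  exact sup_le_sup_right (Subalgebra.map_mono h) _

lemma tmul_mem_T {X' : Subalgebra k X} {x : X} (hx : x ∈ X') (y : Y) : x ⊗ₜ[k] y ∈ T Y X' :=
  ⟨(⟨x, hx⟩ : X') ⊗ₜ[k] y, rfl⟩

lemma one_tmul_mem_T (X' : Subalgebra k X) (y : Y) : (1 : X) ⊗ₜ[k] y ∈ T Y X' :=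
  tmul_mem_T Y (Subalgebra.one_mem X') y

lemma T_top : T Y (⊤ : Subalgebra k X) = ⊤ := by
  rw [eq_top_iff]
  have : ∀ z : X ⊗[k] Y, z ∈ T Y (⊤ : Subalgebra k X) := by
    intro z
    induction z using TensorProduct.induction_on with
    | zero => exact Subalgebra.zero_mem _
    | tmul x y => exact tmul_mem_T Y Algebra.mem_top y
    | add a b ha hb => exact Subalgebra.add_mem _ ha hb
  intro z _
  exact this z

lemma T_sup_map (X' D : Subalgebra k X) :
    T Y (X' ⊔ D) = T Y X' ⊔ D.map (Algebra.TensorProduct.includeLeft : X →ₐ[k] X ⊗[k] Y) := by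
  rw [T_eq, T_eq, Algebra.map_sup, sup_assoc, sup_assoc,
    sup_comm (D.map _) (Algebra.TensorProduct.includeRight : Y →ₐ[k] X ⊗[k] Y).range]

/-- a linear projection onto a subalgebra -/
lemma exists_proj (X' : Subalgebra k X) :
    ∃ π : X →ₗ[k] X, (∀ x ∈ X', π x = x) ∧ ∀ x, π x ∈ X' := by
  obtain ⟨g, hg⟩ := LinearMap.exists_leftInverse_of_injective (Subalgebra.toSubmodule X').subtype
    (Submodule.ker_subtype _)
  refine ⟨(Subalgebra.toSubmodule X').subtype ∘ₗ g, ?_, ?_⟩
  · intro x hx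
    have h1 := LinearMap.congr_fun hg ⟨x, hx⟩
    simp only [LinearMap.comp_apply, Submodule.subtype_apply, LinearMap.id_apply] at h1
    show ((g x : Subalgebra.toSubmodule X') : X) = x
    rw [h1]
  · intro x
    exact (g x).2

lemma mem_T_iff (X' : Subalgebra k X) (π : X →ₗ[k] X) (h1 : ∀ x ∈ X', π x = x)
    (h2 : ∀ x, π x ∈ X') (z : X ⊗[k] Y) : z ∈ T Y X' ↔ (π.rTensor Y) z = z := by
  constructor
  · rintro ⟨t, rfl⟩
    induction t using TensorProduct.induction_on with
    | zero => simp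
    | tmul x y =>
      show (π.rTensor Y) ((x : X) ⊗ₜ[k] y) = (x : X) ⊗ₜ[k] y
      rw [LinearMap.rTensor_tmul, h1 _ x.2]
    | add a b ha hb => rw [map_add, map_add, ha, hb]
  · intro h
    rw [← h]
    have : ∀ z : X ⊗[k] Y, (π.rTensor Y) z ∈ T Y X' := by
      intro z
      induction z using TensorProduct.induction_on with
      | zero => rw [map_zero]; exact Subalgebra.zero_mem _
      | tmul x y =>
        rw [LinearMap.rTensor_tmul]
        exact tmul_mem_T Y (h2 x) y
      | add a b ha hb => rw [map_add]; exact Subalgebra.add_mem _ ha hb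
    exact this z

lemma exists_dual_one [Nontrivial Y] : ∃ φ : Y →ₗ[k] k, φ 1 = 1 := by
  obtain ⟨φ, hφ⟩ := LinearMap.exists_extend
    (p := Submodule.span k {(1 : Y)})
    (f := ((LinearEquiv.toSpanNonzeroSingleton k Y (1 : Y) one_ne_zero).symm : _ →ₗ[k] k))
  refine ⟨φ, ?_⟩
  have h1 := LinearMap.congr_fun hφ ⟨1, Submodule.mem_span_singleton_self 1⟩
  simp only [LinearMap.comp_apply, Submodule.subtype_apply] at h1
  rw [h1]
  have h2 : (LinearEquiv.toSpanNonzeroSingleton k Y (1 : Y) one_ne_zero) 1 =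
      ⟨1, Submodule.mem_span_singleton_self 1⟩ := by
    apply Subtype.ext
    simp [LinearEquiv.toSpanNonzeroSingleton]
  show (LinearEquiv.toSpanNonzeroSingleton k Y (1 : Y) one_ne_zero).symm _ = 1
  rw [← h2, LinearEquiv.symm_apply_apply]

lemma includeLeft_injective' [Nontrivial Y] :
    Function.Injective (fun x : X => x ⊗ₜ[k] (1 : Y)) := by
  obtain ⟨φ, hφ⟩ := exists_dual_one (k := k) Y
  intro x x' h
  have h1 := congrArg (fun z => (TensorProduct.rid k X) ((φ.lTensor X) z)) h
  simpa [hφ] using h1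

lemma mem_of_tmul_one_mem_T [Nontrivial Y] (X' : Subalgebra k X) (x : X)
    (h : x ⊗ₜ[k] (1 : Y) ∈ T Y X') : x ∈ X' := by
  obtain ⟨π, h1, h2⟩ := exists_proj X'
  have h3 := (mem_T_iff Y X' π h1 h2 _).mp h
  rw [LinearMap.rTensor_tmul] at h3
  have h4 := includeLeft_injective' (k := k) (X := X) Y h3
  rw [← h4]
  exact h2 x

/-- membership in `(⋃ chain) ⊗ Y` is witnessed by a member of the chain -/
lemma exists_mem_T_of_chain (c : Set (Subalgebra k X)) (hc : IsChain (· ≤ ·) c) (hne : c.Nonempty)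
    (z : X ⊗[k] Y) (hz : z ∈ T Y (sSup c)) : ∃ s ∈ c, z ∈ T Y s := by
  obtain ⟨t, rfl⟩ := hz
  induction t using TensorProduct.induction_on with
  | zero =>
    obtain ⟨s, hs⟩ := hne
    exact ⟨s, hs, by rw [map_zero]; exact Subalgebra.zero_mem _⟩
  | tmul x y =>
    obtain ⟨s, hs, hxs⟩ := (PtExt.mem_sSup_of_chain c hc hne (x : X)).mp x.2
    exact ⟨s, hs, tmul_mem_T Y hxs y⟩
  | add a b ha hb =>
    obtain ⟨s₁, hs₁, h₁⟩ := ha
    obtain ⟨s₂, hs₂, h₂⟩ := hb
    rcases hc.total hs₁ hs₂ with h | h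
    · exact ⟨s₂, hs₂, by rw [map_add]; exact Subalgebra.add_mem _ (T_mono Y h h₁) h₂⟩
    · exact ⟨s₁, hs₁, by rw [map_add]; exact Subalgebra.add_mem _ h₁ (T_mono Y h h₂)⟩

/-- every tensor lies in `D ⊗ Y` for a finitely generated `D` -/
lemma exists_fg_mem_T (z : X ⊗[k] Y) : ∃ D : Subalgebra k X, D.FG ∧ z ∈ T Y D := by
  induction z using TensorProduct.induction_on with
  | zero => exact ⟨⊥, Subalgebra.fg_bot, Subalgebra.zero_mem _⟩
  | tmul x y =>
    refine ⟨Algebra.adjoin k {x}, Subalgebra.fg_adjoin_finset {x} |> fun h => by simpa using h,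
      tmul_mem_T Y (Algebra.subset_adjoin (Set.mem_singleton x)) y⟩
  | add a b ha hb =>
    obtain ⟨D₁, h₁, m₁⟩ := ha
    obtain ⟨D₂, h₂, m₂⟩ := hb
    exact ⟨D₁ ⊔ D₂, h₁.sup h₂, Subalgebra.add_mem _ (T_mono Y le_sup_left m₁)
      (T_mono Y le_sup_right m₂)⟩

lemma map_val_injective (X' : Subalgebra k X) :
    Function.Injective (Algebra.TensorProduct.map X'.val (AlgHom.id k Y)) := by
  have h := Module.Flat.rTensor_preserves_injective_linearMap (M := Y)
    (Subalgebra.toSubmodule X').subtype (Subtype.val_injective)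
  intro a b hab
  apply h
  exact hab

end Groth.Agent.Lib.Helper6.PTors
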