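import Mathlib
import Groth.Agent.Lib.Helper6.PTors.PT1
import Groth.Agent.Lib.Helper2.FF.Union

/-!
# Torsors under affine group schemes over an algebraically closed field (helper6)

Part 2: the algebraic torsor structure `ρ : B → A ⊗ B`, the subalgebras `B(A')` of
`A'`-coinvariants and the restricted torsor isomorphism `B(A') ⊗ B ≃ A' ⊗ B`.
-/

set_option autoImplicit false
set_option linter.unusedSectionVars false
set_option linter.unusedVariables false
set_option linter.unusedSimpArgs false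
set_option linter.style.haveILetI false
set_option linter.overlappingInstances false
set_option maxHeartbeats 800000
set_option synthInstance.maxHeartbeats 400000

noncomputable section

namespace Groth.Agent.Lib.Helper6.PTors

open TensorProduct Groth.Agent.Helper2.FF

universe u v w

/-- an algebraic (pseudo-)torsor: a coassociative coaction whose canonical map is bijective -/
structure Tors (k : Type u) [Field k] (A : Type v) [CommRing A] [HopfAlgebra k A]
    (B : Type w) [CommRing B] [Algebra k B] where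
  /-- the coaction -/
  ρ : B →ₐ[k] A ⊗[k] B
  coassoc : ∀ b, Algebra.TensorProduct.assoc k k k A A B
      ((Algebra.TensorProduct.map (Bialgebra.comulAlgHom k A) (AlgHom.id k B)) (ρ b)) =
    (Algebra.TensorProduct.map (AlgHom.id k A) ρ) (ρ b)
  bij : Function.Bijective (Algebra.TensorProduct.lift ρ
      (Algebra.TensorProduct.includeRight : B →ₐ[k] A ⊗[k] B) (fun _ _ => Commute.all _ _))

namespace Tors

variable {k : Type u} [Field k] {A : Type v} [CommRing A] [HopfAlgebra k A]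
  {B : Type w} [CommRing B] [Algebra k B] (t : Tors k A B)

/-- the canonical map `b ⊗ b' ↦ ρ(b) (1 ⊗ b')` -/
def θ : B ⊗[k] B →ₐ[k] A ⊗[k] B :=
  Algebra.TensorProduct.lift t.ρ
    (Algebra.TensorProduct.includeRight : B →ₐ[k] A ⊗[k] B) (fun _ _ => Commute.all _ _)

lemma θ_tmul (b b' : B) : t.θ (b ⊗ₜ[k] b') = t.ρ b * ((1 : A) ⊗ₜ[k] b') := by
  unfold θ
  rw [Algebra.TensorProduct.lift_tmul]
  rfl

lemma θ_tmul_one (b : B) : t.θ (b ⊗ₜ[k] 1) = t.ρ b := by
  rw [θ_tmul]
  have : ((1 : A) ⊗ₜ[k] (1 : B)) = 1 := rfl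
  rw [this, mul_one]

lemma θ_one_tmul (b : B) : t.θ ((1 : B) ⊗ₜ[k] b) = (1 : A) ⊗ₜ[k] b := by
  rw [θ_tmul, map_one, one_mul]

/-- the canonical map as an equivalence -/
def θe : B ⊗[k] B ≃ₐ[k] A ⊗[k] B := AlgEquiv.ofBijective t.θ t.bij

lemma θe_apply (w : B ⊗[k] B) : t.θe w = t.θ w := rfl

lemma θ_θe_symm (z : A ⊗[k] B) : t.θ (t.θe.symm z) = z := t.θe.apply_symm_apply z

lemma θe_symm_θ (w : B ⊗[k] B) : t.θe.symm (t.θ w) = w := t.θe.symm_apply_apply w

lemma θ_injective : Function.Injective t.θ := t.bij.1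

/-- the subalgebra of elements whose coaction lies in `A' ⊗ B` -/
def Bs (A' : Subalgebra k A) : Subalgebra k B := (T B A').comap t.ρ

lemma mem_Bs {A' : Subalgebra k A} {b : B} : b ∈ t.Bs A' ↔ t.ρ b ∈ T B A' := Iff.rfl

lemma Bs_mono {A₁ A₂ : Subalgebra k A} (h : A₁ ≤ A₂) : t.Bs A₁ ≤ t.Bs A₂ :=
  fun b hb => T_mono B h hb

lemma Bs_top : t.Bs (⊤ : Subalgebra k A) = ⊤ := by
  rw [eq_top_iff]
  intro b _
  rw [mem_Bs, T_top]
  exact Algebra.mem_top

lemma Bs_bot [Nontrivial B] : t.Bs (⊥ : Subalgebra k A) = ⊥ := by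
  rw [eq_bot_iff]
  intro b hb
  obtain ⟨s, hs⟩ := hb
  have hcl : ∀ s : (⊥ : Subalgebra k A) ⊗[k] B, ∃ b₁ : B,
      (Algebra.TensorProduct.map (⊥ : Subalgebra k A).val (AlgHom.id k B)) s =
        (1 : A) ⊗ₜ[k] b₁ := by
    intro s
    induction s using TensorProduct.induction_on with
    | zero => exact ⟨0, by simp⟩
    | tmul x y =>
      obtain ⟨c, hc⟩ := Algebra.mem_bot.mp x.2
      refine ⟨c • y, ?_⟩
      show (x : A) ⊗ₜ[k] y = (1 : A) ⊗ₜ[k] (c • y)
      rw [← hc, Algebra.algebraMap_eq_smul_one, TensorProduct.smul_tmul]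
    | add a b ha hb =>
      obtain ⟨b₁, h₁⟩ := ha
      obtain ⟨b₂, h₂⟩ := hb
      exact ⟨b₁ + b₂, by rw [map_add, h₁, h₂, TensorProduct.tmul_add]⟩
  obtain ⟨b₁, hb₁⟩ := hcl s
  have h1 : t.ρ b = (1 : A) ⊗ₜ[k] b₁ := by rw [← hb₁]; exact hs.symm
  have h2 : b ⊗ₜ[k] (1 : B) = (1 : B) ⊗ₜ[k] b₁ := by
    apply t.θ_injective
    rw [θ_tmul_one, θ_one_tmul, h1]
  obtain ⟨φ, hφ⟩ := exists_dual_one (k := k) B
  have h3 := congrArg (fun z => (TensorProduct.lid k B) ((φ.rTensor B) z)) h2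
  simp only [LinearMap.rTensor_tmul, TensorProduct.lid_tmul, hφ, one_smul] at h3
  have h4 : b ⊗ₜ[k] (1 : B) = (φ b • (1 : B)) ⊗ₜ[k] (1 : B) := by
    rw [h2, ← h3, TensorProduct.smul_tmul]
  have h5 := includeLeft_injective' (k := k) (X := B) B h4
  rw [h5, Algebra.mem_bot]
  exact ⟨φ b, by rw [Algebra.algebraMap_eq_smul_one]⟩

lemma aux_assoc (s : A ⊗[k] B) (b' : B) :
    (Algebra.TensorProduct.map (AlgHom.id k A) t.θ)
      (Algebra.TensorProduct.assoc k k k A B B (s ⊗ₜ[k] b')) =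
    (Algebra.TensorProduct.map (AlgHom.id k A) t.ρ) s *
      ((1 : A) ⊗ₜ[k] ((1 : A) ⊗ₜ[k] b')) := by
  induction s using TensorProduct.induction_on with
  | zero => simp
  | tmul a b₁ =>
    rw [Algebra.TensorProduct.assoc_tmul, Algebra.TensorProduct.map_tmul,
      Algebra.TensorProduct.map_tmul, AlgHom.id_apply, θ_tmul,
      Algebra.TensorProduct.tmul_mul_tmul, mul_one]
  | add x y hx hy => rw [TensorProduct.add_tmul, map_add, map_add, map_add, add_mul, hx, hy]

/-- colinearity of the canonical map -/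
lemma colin (w : B ⊗[k] B) :
    (Algebra.TensorProduct.map (AlgHom.id k A) t.θ)
      (Algebra.TensorProduct.assoc k k k A B B
        ((Algebra.TensorProduct.map t.ρ (AlgHom.id k B)) w)) =
    Algebra.TensorProduct.assoc k k k A A B
      ((Algebra.TensorProduct.map (Bialgebra.comulAlgHom k A) (AlgHom.id k B)) (t.θ w)) := by
  induction w using TensorProduct.induction_on with
  | zero => simp
  | tmul b b' =>
    rw [Algebra.TensorProduct.map_tmul, AlgHom.id_apply, aux_assoc, θ_tmul, map_mul, map_mul,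
      t.coassoc b, Algebra.TensorProduct.map_tmul, map_one, AlgHom.id_apply]
    congr 1
  | add x y hx hy => simp only [map_add, hx, hy]

/-- the canonical map sends `B(A') ⊗ B` into `A' ⊗ B` -/
lemma θ_mem_T (A' : Subalgebra k A) (w : B ⊗[k] B) (hw : w ∈ T B (t.Bs A')) :
    t.θ w ∈ T B A' := by
  obtain ⟨s, rfl⟩ := hw
  induction s using TensorProduct.induction_on with
  | zero => simp only [map_zero]; exact Subalgebra.zero_mem _
  | tmul x y =>
    show t.θ ((x : B) ⊗ₜ[k] y) ∈ T B A'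
    rw [θ_tmul]
    exact Subalgebra.mul_mem _ x.2 (one_tmul_mem_T B A' y)
  | add a b ha hb => simp only [map_add]; exact Subalgebra.add_mem _ ha hb

end Tors

end Groth.Agent.Lib.Helper6.PTors
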