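import Mathlib
import Groth.Agent.Lib.Helper6.PTors.PT2

/-!
# Torsors under affine group schemes over an algebraically closed field (helper6)

Part 3: the restricted torsor isomorphism `B(A') ⊗ B ≃ A' ⊗ B` and finite generation of
`B(A' ⊔ C₁)` over `B(A')`.
-/

set_option autoImplicit false
set_option linter.unusedSectionVars false
set_option linter.unusedVariables false
set_option linter.unusedSimpArgs false
set_option linter.style.haveILetI false
set_option linter.overlappingInstances false
set_option maxHeartbeats 800000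
set_option synthInstance.maxHeartbeats 400000

noncomputable section

namespace Groth.Agent.Lib.Helper6.PTors

open TensorProduct Groth.Agent.Helper2.FF

universe u v w

namespace Tors

variable {k : Type u} [Field k] {A : Type v} [CommRing A] [HopfAlgebra k A]
  {B : Type w} [CommRing B] [Algebra k B] (t : Tors k A B)

lemma assoc_rTensor_rTensor (f : A →ₗ[k] A) (u : (A ⊗[k] B) ⊗[k] B) :
    Algebra.TensorProduct.assoc k k k A B B (((f.rTensor B).rTensor B) u) =
      (f.rTensor (B ⊗[k] B)) (Algebra.TensorProduct.assoc k k k A B B u) := by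
  induction u using TensorProduct.induction_on with
  | zero => simp
  | tmul s b' =>
    induction s using TensorProduct.induction_on with
    | zero => simp
    | tmul a b₁ =>
      rw [LinearMap.rTensor_tmul, LinearMap.rTensor_tmul, Algebra.TensorProduct.assoc_tmul,
        Algebra.TensorProduct.assoc_tmul, LinearMap.rTensor_tmul]
    | add x y hx hy =>
      rw [TensorProduct.add_tmul, map_add, map_add, map_add, map_add, hx, hy]
  | add x y hx hy => rw [map_add, map_add, map_add, map_add, hx, hy]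

lemma map_id_rTensor (f : A →ₗ[k] A) (x : A ⊗[k] (B ⊗[k] B)) :
    (Algebra.TensorProduct.map (AlgHom.id k A) t.θ) ((f.rTensor (B ⊗[k] B)) x) =
      (f.rTensor (A ⊗[k] B)) ((Algebra.TensorProduct.map (AlgHom.id k A) t.θ) x) := by
  induction x using TensorProduct.induction_on with
  | zero => simp
  | tmul a s =>
    rw [LinearMap.rTensor_tmul, Algebra.TensorProduct.map_tmul, Algebra.TensorProduct.map_tmul,
      LinearMap.rTensor_tmul]
    rfl
  | add x y hx hy => rw [map_add, map_add, map_add, map_add, hx, hy]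

lemma map_id_θ_injective :
    Function.Injective (Algebra.TensorProduct.map (AlgHom.id k A) t.θ) := by
  have h : ∀ x, (Algebra.TensorProduct.map (AlgHom.id k A) (t.θe.symm : A ⊗[k] B →ₐ[k] B ⊗[k] B))
      ((Algebra.TensorProduct.map (AlgHom.id k A) t.θ) x) = x := by
    intro x
    induction x using TensorProduct.induction_on with
    | zero => simp
    | tmul a s =>
      rw [Algebra.TensorProduct.map_tmul, Algebra.TensorProduct.map_tmul]
      show a ⊗ₜ[k] (t.θe.symm (t.θ s)) = a ⊗ₜ[k] s
      rw [θe_symm_θ]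
    | add x y hx hy => rw [map_add, map_add, hx, hy]
  intro x y hxy
  rw [← h x, ← h y, hxy]

/-- **the restricted torsor isomorphism**: if `θ w ∈ A' ⊗ B` then `w ∈ B(A') ⊗ B` -/
theorem mem_T_Bs_of_θ_mem (A' : Subalgebra k A)
    (hΔ : ∀ a ∈ A', Coalgebra.comul (R := k) a ∈
      (Algebra.TensorProduct.map A'.val A'.val).range)
    (w : B ⊗[k] B) (hw : t.θ w ∈ T B A') : w ∈ T B (t.Bs A') := by
  obtain ⟨π, h1, h2⟩ := exists_proj A'
  set π' : A →ₗ[k] A := LinearMap.id - π with hπ'
  have hπ'0 : ∀ a ∈ A', π' a = 0 := by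
    intro a ha
    rw [hπ', LinearMap.sub_apply, LinearMap.id_apply, h1 a ha, sub_self]
  have hker : ∀ z : A ⊗[k] B, (π'.rTensor B) z = 0 ↔ z ∈ T B A' := by
    intro z
    rw [mem_T_iff B A' π h1 h2, hπ', LinearMap.rTensor_sub, LinearMap.sub_apply,
      LinearMap.rTensor_id, LinearMap.id_apply, sub_eq_zero, eq_comm]
  set σ : B →ₗ[k] A ⊗[k] B := (π'.rTensor B) ∘ₗ t.ρ.toLinearMap with hσ
  have hσker : ∀ b, σ b = 0 ↔ b ∈ t.Bs A' := fun b => hker (t.ρ b)
  have hex : Function.Exact ((LinearMap.ker σ).subtype.rTensor B) (σ.rTensor B) :=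
    Module.Flat.rTensor_exact B (LinearMap.exact_subtype_ker_map σ)
  have hrange : ∀ s : (LinearMap.ker σ) ⊗[k] B,
      ((LinearMap.ker σ).subtype.rTensor B) s ∈ T B (t.Bs A') := by
    intro s
    induction s using TensorProduct.induction_on with
    | zero => rw [map_zero]; exact Subalgebra.zero_mem _
    | tmul x y =>
      rw [LinearMap.rTensor_tmul]
      exact tmul_mem_T B ((hσker x.1).mp (LinearMap.mem_ker.mp x.2)) y
    | add a b ha hb => rw [map_add]; exact Subalgebra.add_mem _ ha hb
  suffices h : (σ.rTensor B) w = 0 by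
    obtain ⟨s, rfl⟩ := (hex w).mp h
    exact hrange s
  -- the main computation
  have hσr : (σ.rTensor B) w = ((π'.rTensor B).rTensor B)
      ((Algebra.TensorProduct.map t.ρ (AlgHom.id k B)) w) := by
    rw [hσ, LinearMap.rTensor_comp, LinearMap.comp_apply]
    rfl
  rw [hσr]
  apply (Algebra.TensorProduct.assoc k k k A B B).injective
  rw [map_zero, assoc_rTensor_rTensor]
  apply t.map_id_θ_injective
  rw [map_zero, map_id_rTensor, colin]
  -- now use that `θ w ∈ A' ⊗ B`
  have hcl2 : ∀ (r : A' ⊗[k] A') (b : B), (π'.rTensor (A ⊗[k] B))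
      (Algebra.TensorProduct.assoc k k k A A B
        (((Algebra.TensorProduct.map A'.val A'.val) r) ⊗ₜ[k] b)) = 0 := by
    intro r b
    induction r using TensorProduct.induction_on with
    | zero => simp
    | tmul a₁ a₂ =>
      rw [Algebra.TensorProduct.map_tmul, Algebra.TensorProduct.assoc_tmul,
        LinearMap.rTensor_tmul]
      show π' (a₁ : A) ⊗ₜ[k] _ = 0
      rw [hπ'0 _ a₁.2, TensorProduct.zero_tmul]
    | add x y hx hy => rw [map_add, TensorProduct.add_tmul, map_add, map_add, hx, hy, add_zero]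
  have hcl1 : ∀ s : A' ⊗[k] B, (π'.rTensor (A ⊗[k] B))
      (Algebra.TensorProduct.assoc k k k A A B
        ((Algebra.TensorProduct.map (Bialgebra.comulAlgHom k A) (AlgHom.id k B))
          ((Algebra.TensorProduct.map A'.val (AlgHom.id k B)) s))) = 0 := by
    intro s
    induction s using TensorProduct.induction_on with
    | zero => simp
    | tmul a b =>
      rw [Algebra.TensorProduct.map_tmul, Algebra.TensorProduct.map_tmul, AlgHom.id_apply,
        AlgHom.id_apply]
      obtain ⟨r, hr⟩ := hΔ _ a.2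
      show (π'.rTensor (A ⊗[k] B)) (Algebra.TensorProduct.assoc k k k A A B
        ((Coalgebra.comul (R := k) (a : A)) ⊗ₜ[k] b)) = 0
      rw [← hr]
      exact hcl2 r b
    | add x y hx hy => rw [map_add, map_add, map_add, map_add, hx, hy, add_zero]
  obtain ⟨s, hs⟩ := hw
  have hs' : (Algebra.TensorProduct.map A'.val (AlgHom.id k B)) s = t.θ w := hs
  rw [← hs']
  exact hcl1 s

/-- the canonical map identifies `B(A') ⊗ B` with `A' ⊗ B` -/
theorem map_θ_T_Bs (A' : Subalgebra k A)
    (hΔ : ∀ a ∈ A', Coalgebra.comul (R := k) a ∈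
      (Algebra.TensorProduct.map A'.val A'.val).range) :
    (T B (t.Bs A')).map t.θ = T B A' := by
  apply le_antisymm
  · rintro _ ⟨w, hw, rfl⟩
    exact t.θ_mem_T A' w hw
  · intro z hz
    refine ⟨t.θe.symm z, ?_, t.θ_θe_symm z⟩
    apply t.mem_T_Bs_of_θ_mem A' hΔ
    rw [θ_θe_symm]
    exact hz

/-- `B(A' ⊔ C₁)` is generated over `B(A')` by finitely many elements, `C₁` finitely generated -/
theorem exists_fg_Bs_sup_le [Nontrivial B] (A' C₁ : Subalgebra k A)
    (hΔ : ∀ a ∈ A', Coalgebra.comul (R := k) a ∈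
      (Algebra.TensorProduct.map A'.val A'.val).range) (hfg : C₁.FG) :
    ∃ D : Subalgebra k B, D.FG ∧ t.Bs (A' ⊔ C₁) ≤ t.Bs A' ⊔ D := by
  classical
  obtain ⟨s, hs⟩ := hfg
  have hD : ∃ D : Subalgebra k B, D.FG ∧
      ∀ c ∈ s, t.θe.symm (c ⊗ₜ[k] (1 : B)) ∈ T B D := by
    clear hs
    induction s using Finset.induction_on with
    | empty => exact ⟨⊥, Subalgebra.fg_bot, by simp⟩
    | insert c s' _ ih =>
      obtain ⟨D', hD', hm'⟩ := ih
      obtain ⟨Dc, hDc, hmc⟩ := exists_fg_mem_T B (t.θe.symm (c ⊗ₜ[k] (1 : B)))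
      refine ⟨D' ⊔ Dc, hD'.sup hDc, ?_⟩
      intro c' hc'
      rcases Finset.mem_insert.mp hc' with rfl | h
      · exact T_mono B le_sup_right hmc
      · exact T_mono B le_sup_left (hm' c' h)
  obtain ⟨D, hDfg, hDm⟩ := hD
  refine ⟨D, hDfg, ?_⟩
  have h1 : T B (A' ⊔ C₁) ≤ (T B (t.Bs A' ⊔ D)).map t.θ := by
    rw [T_sup_map]
    apply sup_le
    · rw [← t.map_θ_T_Bs A' hΔ]
      exact Subalgebra.map_mono (T_mono B le_sup_left)
    · rw [← hs, AlgHom.map_adjoin]
      apply Algebra.adjoin_le
      rintro _ ⟨c, hc, rfl⟩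
      refine ⟨t.θe.symm (c ⊗ₜ[k] (1 : B)), T_mono B le_sup_right (hDm c hc), ?_⟩
      exact t.θ_θe_symm _
  intro b hb
  obtain ⟨w', hw', hw'2⟩ := h1 (t.mem_Bs.mp hb)
  have h2 : w' = b ⊗ₜ[k] (1 : B) := by
    apply t.θ_injective
    rw [θ_tmul_one]
    exact hw'2
  rw [h2] at hw'
  exact mem_of_tmul_one_mem_T B _ b hw'

end Tors

end Groth.Agent.Lib.Helper6.PTors
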