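import Mathlib
import Groth.Agent.Lib.Helper6.PTors.PT3
import Groth.Agent.Lib.Helper2.FF.Points

/-!
# Torsors under affine group schemes over an algebraically closed field (helper6)

Part 4: a rational point of `B(A')` lifts to a point of `B` (faithful flatness transferred
through the torsor isomorphism), and the one-step extension of rational points.
-/

set_option autoImplicit false
set_option linter.unusedSectionVars false
set_option linter.unusedVariables false
set_option linter.unusedSimpArgs false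
set_option linter.style.haveILetI false
set_option linter.overlappingInstances false
set_option maxHeartbeats 800000
set_option synthInstance.maxHeartbeats 400000

noncomputable section

namespace Groth.Agent.Lib.Helper6.PTors

open TensorProduct Groth.Agent.Helper2.FF

universe u v w

namespace Tors

variable {k : Type u} [Field k] {A : Type v} [CommRing A] [HopfAlgebra k A]
  {B : Type w} [CommRing B] [Algebra k B] (t : Tors k A B)

/-- a rational point of `B(A')` is in the image of `Spec B` -/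
theorem map_ker_ne_top [Nontrivial B] (A' : Subalgebra k A) (hA' : HS A')
    (y : t.Bs A' →ₐ[k] k) :
    Ideal.map (algebraMap (t.Bs A') B) (RingHom.ker (y : t.Bs A' →+* k)) ≠ ⊤ := by
  haveI : Module.FaithfullyFlat A' A := faithfullyFlat_of_HS A' hA'
  let ιB : (t.Bs A') ⊗[k] B →ₐ[k] B ⊗[k] B :=
    Algebra.TensorProduct.map (t.Bs A').val (AlgHom.id k B)
  let ιA : A' ⊗[k] B →ₐ[k] A ⊗[k] B := Algebra.TensorProduct.map A'.val (AlgHom.id k B)
  have hιB : Function.Injective ιB := map_val_injective B (t.Bs A')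
  have hmem : ∀ s : A' ⊗[k] B,
      ((t.θe.symm : A ⊗[k] B →ₐ[k] B ⊗[k] B).comp ιA) s ∈ ιB.range := by
    intro s
    have h := t.mem_T_Bs_of_θ_mem A' hA'.1 (t.θe.symm (ιA s))
      (by rw [θ_θe_symm]; exact ⟨s, rfl⟩)
    exact h
  let eB : (t.Bs A') ⊗[k] B ≃ₐ[k] ιB.range := AlgEquiv.ofInjective ιB hιB
  let Ψ : A' ⊗[k] B →ₐ[k] (t.Bs A') ⊗[k] B :=
    (eB.symm : ιB.range →ₐ[k] (t.Bs A') ⊗[k] B).comp
      (((t.θe.symm : A ⊗[k] B →ₐ[k] B ⊗[k] B).comp ιA).codRestrict ιB.range hmem)
  have hΨ : ∀ s, ιB (Ψ s) = t.θe.symm (ιA s) := by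
    intro s
    have h1 : eB (Ψ s) =
        ((t.θe.symm : A ⊗[k] B →ₐ[k] B ⊗[k] B).comp ιA).codRestrict ιB.range hmem s :=
      eB.apply_symm_apply _
    exact congrArg Subtype.val h1
  let L : (t.Bs A') ⊗[k] B →ₐ[k] B :=
    Algebra.TensorProduct.lift ((Algebra.ofId k B).comp y) (AlgHom.id k B)
      (fun _ _ => Commute.all _ _)
  let γ : A' ⊗[k] B →ₐ[k] B := L.comp Ψ
  let g' : A' →ₐ[k] B := γ.comp Algebra.TensorProduct.includeLeft
  have hγ1 : ∀ b : B, γ ((1 : A') ⊗ₜ[k] b) = b := by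
    intro b
    have h1 : Ψ ((1 : A') ⊗ₜ[k] b) = (1 : t.Bs A') ⊗ₜ[k] b := by
      apply hιB
      rw [hΨ, AlgEquiv.symm_apply_eq]
      show ((1 : A') : A) ⊗ₜ[k] b = t.θ (((1 : t.Bs A') : B) ⊗ₜ[k] b)
      rw [OneMemClass.coe_one, OneMemClass.coe_one, θ_one_tmul]
    show L (Ψ ((1 : A') ⊗ₜ[k] b)) = b
    rw [h1]
    show Algebra.TensorProduct.lift ((Algebra.ofId k B).comp y) (AlgHom.id k B)
      (fun _ _ => Commute.all _ _) ((1 : t.Bs A') ⊗ₜ[k] b) = b
    rw [Algebra.TensorProduct.lift_tmul, map_one, one_mul, AlgHom.id_apply]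
  have hγ2 : ∀ s : A' ⊗[k] B, γ s =
      Algebra.TensorProduct.lift g' (AlgHom.id k B) (fun _ _ => Commute.all _ _) s := by
    intro s
    induction s using TensorProduct.induction_on with
    | zero => simp
    | tmul a b =>
      rw [Algebra.TensorProduct.lift_tmul, AlgHom.id_apply]
      have h1 : a ⊗ₜ[k] b = (a ⊗ₜ[k] (1 : B)) * ((1 : A') ⊗ₜ[k] b) := by
        rw [Algebra.TensorProduct.tmul_mul_tmul, mul_one, one_mul]
      rw [h1, map_mul, hγ1]
      rfl
    | add x y hx hy => rw [map_add, map_add, hx, hy]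
  have hγ3 : ∀ (b : t.Bs A') (s : A' ⊗[k] B), ιA s = t.ρ b → γ s = algebraMap k B (y b) := by
    intro b s hs
    have h1 : Ψ s = b ⊗ₜ[k] (1 : B) := by
      apply hιB
      rw [hΨ, hs, AlgEquiv.symm_apply_eq]
      show t.ρ b = t.θ ((b : B) ⊗ₜ[k] (1 : B))
      rw [θ_tmul_one]
    show L (Ψ s) = _
    rw [h1]
    show Algebra.TensorProduct.lift ((Algebra.ofId k B).comp y) (AlgHom.id k B)
      (fun _ _ => Commute.all _ _) (b ⊗ₜ[k] (1 : B)) = _
    rw [Algebra.TensorProduct.lift_tmul, map_one, mul_one]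
    rfl
  -- the tensor product over `A'`
  letI algA'B : Algebra A' B := g'.toRingHom.toAlgebra
  haveI : IsScalarTower k A' B := IsScalarTower.of_algebraMap_eq (fun c => (g'.commutes c).symm)
  haveI hR : Nontrivial (A ⊗[A'] B) := inferInstance
  let Φ : A ⊗[k] B →ₐ[k] A ⊗[A'] B := Algebra.TensorProduct.mapOfCompatibleSMul A' k k A B
  let z : B →+* A ⊗[A'] B := (Φ : A ⊗[k] B →+* A ⊗[A'] B).comp (t.ρ : B →+* A ⊗[k] B)
  have hΦ : ∀ s : A' ⊗[k] B, Φ (ιA s) = (1 : A) ⊗ₜ[A'] (γ s) := by
    intro s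
    rw [hγ2]
    induction s using TensorProduct.induction_on with
    | zero => simp
    | tmul a b =>
      rw [Algebra.TensorProduct.lift_tmul, AlgHom.id_apply]
      show (a : A) ⊗ₜ[A'] b = (1 : A) ⊗ₜ[A'] (g' a * b)
      have h1 : (a : A) = a • (1 : A) := by
        rw [Algebra.smul_def, mul_one]
        rfl
      have h2 : g' a * b = a • b := by
        rw [Algebra.smul_def]
        rfl
      rw [h1, h2, TensorProduct.smul_tmul]
    | add x y hx hy => rw [map_add, map_add, map_add, hx, hy, TensorProduct.tmul_add]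
  have hz : ∀ b : t.Bs A', y b = 0 → z (b : B) = 0 := by
    intro b hb
    obtain ⟨s, hs⟩ := b.2
    have hs' : ιA s = t.ρ b := hs
    show Φ (t.ρ b) = 0
    rw [← hs', hΦ, hγ3 b s hs', hb, map_zero, TensorProduct.tmul_zero]
  intro htop
  have hle : Ideal.map (algebraMap (t.Bs A') B) (RingHom.ker (y : t.Bs A' →+* k)) ≤
      RingHom.ker z := by
    rw [Ideal.map_le_iff_le_comap]
    intro b hb
    rw [Ideal.mem_comap, RingHom.mem_ker]
    exact hz b (RingHom.mem_ker.mp hb)
  rw [htop, top_le_iff] at hle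
  exact RingHom.ker_ne_top z hle

end Tors

section General

variable {k : Type u} [Field k] {B : Type w} [CommRing B] [Algebra k B]

/-- one-step extension of a rational point of a subalgebra `C` to `C ⊔ C₁`, `C₁` finitely
generated, provided the point lies in the image of `Spec B` -/
theorem exists_extend_sup_of_ne_top [IsAlgClosed k] (C C₁ : Subalgebra k B) (hfg : C₁.FG)
    (f : C →ₐ[k] k)
    (hJ : Ideal.map (algebraMap C B) (RingHom.ker (f : C →+* k)) ≠ ⊤) :
    ∃ f' : (C ⊔ C₁ : Subalgebra k B) →ₐ[k] k,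
      ∀ c : C, f' (Subalgebra.inclusion le_sup_left c) = f c := by
  let J : Ideal B := Ideal.map (algebraMap C B) (RingHom.ker (f : C →+* k))
  let π : B →ₐ[k] (B ⧸ J) := Ideal.Quotient.mkₐ k J
  have hπC : ∀ c : C, π (c : B) = algebraMap k (B ⧸ J) (f c) := by
    intro c
    have h1 : c - algebraMap k C (f c) ∈ RingHom.ker (f : C →+* k) := by
      rw [RingHom.mem_ker]
      show f (c - algebraMap k C (f c)) = 0
      rw [map_sub, AlgHom.commutes]
      simp
    have h2 : algebraMap C B (c - algebraMap k C (f c)) ∈ J := Ideal.mem_map_of_mem _ h1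
    have h3 : π ((c : B) - algebraMap k B (f c)) = 0 := by
      show Ideal.Quotient.mk J ((c : B) - algebraMap k B (f c)) = 0
      rw [Ideal.Quotient.eq_zero_iff_mem]
      exact h2
    rw [map_sub, sub_eq_zero] at h3
    rw [h3, AlgHom.commutes]
  let R₁ : Subalgebra k (B ⧸ J) := C₁.map π
  haveI : Algebra.FiniteType k R₁ := (Subalgebra.fg_iff_finiteType R₁).mp (hfg.map π)
  haveI : Nontrivial (B ⧸ J) := Ideal.Quotient.nontrivial_iff.mpr hJ
  obtain ⟨p⟩ := exists_algHom_of_finiteType_algClosed k R₁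
  have himg : ∀ d : (C ⊔ C₁ : Subalgebra k B), (π.comp (C ⊔ C₁).val) d ∈ R₁ := by
    intro d
    have hle : C ⊔ C₁ ≤ R₁.comap π := by
      apply sup_le
      · intro c hc
        rw [Subalgebra.mem_comap, hπC ⟨c, hc⟩]
        exact Subalgebra.algebraMap_mem _ _
      · intro c hc
        exact ⟨c, hc, rfl⟩
    exact hle d.2
  refine ⟨p.comp ((π.comp (C ⊔ C₁).val).codRestrict R₁ himg), ?_⟩
  intro c
  have h1 : ((π.comp (C ⊔ C₁).val).codRestrict R₁ himg) (Subalgebra.inclusion le_sup_left c) =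
      algebraMap k R₁ (f c) := Subtype.ext (hπC c)
  rw [AlgHom.comp_apply, h1, AlgHom.commutes]
  rfl

end General

end Groth.Agent.Lib.Helper6.PTors
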