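import Mathlib
import Groth.Agent.Lib.Helper6.PTors.PT4

/-!
# Torsors under affine group schemes over an algebraically closed field (helper6)

Part 5: the Zorn argument: an algebraic torsor `B ≠ 0` under a commutative Hopf algebra `A`
over an algebraically closed field has a rational point.
-/

set_option autoImplicit false
set_option linter.unusedSectionVars false
set_option linter.unusedVariables false
set_option linter.unusedSimpArgs false
set_option linter.style.haveILetI false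
set_option linter.overlappingInstances false
set_option maxHeartbeats 800000
set_option synthInstance.maxHeartbeats 400000

noncomputable section

namespace Groth.Agent.Lib.Helper6.PTors

open TensorProduct Groth.Agent.Helper2.FF

universe u v w

section Graph

variable {k : Type u} [Field k] {R : Type w} [CommRing R] [Algebra k R]

/-- graph of a partial point -/
def graph (C : Subalgebra k R) (f : C →ₐ[k] k) : Subalgebra k (R × k) :=
  (AlgHom.prod C.val f).range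

lemma mem_graph {C : Subalgebra k R} {f : C →ₐ[k] k} {p : R × k} :
    p ∈ graph C f ↔ ∃ h : p.1 ∈ C, f ⟨p.1, h⟩ = p.2 := by
  constructor
  · rintro ⟨c, rfl⟩
    exact ⟨c.2, rfl⟩
  · rintro ⟨h, hf⟩
    exact ⟨⟨p.1, h⟩, Prod.ext rfl hf⟩

lemma map_fst_graph (C : Subalgebra k R) (f : C →ₐ[k] k) :
    (graph C f).map (AlgHom.fst k R k) = C := by
  ext a
  constructor
  · rintro ⟨p, hp, rfl⟩
    exact (mem_graph.mp hp).1
  · intro ha
    exact ⟨(a, f ⟨a, ha⟩), mem_graph.mpr ⟨ha, rfl⟩, rfl⟩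

lemma exists_ofGraph (S : Subalgebra k (R × k)) (hS : ∀ p ∈ S, p.1 = 0 → p.2 = 0) :
    ∃ f : (S.map (AlgHom.fst k R k) : Subalgebra k R) →ₐ[k] k,
      ∀ p (hp : p ∈ S), f ⟨p.1, ⟨p, hp, rfl⟩⟩ = p.2 := by
  let φ : S →ₐ[k] (S.map (AlgHom.fst k R k) : Subalgebra k R) :=
    ((AlgHom.fst k R k).comp S.val).codRestrict _ (fun s => ⟨s.1, s.2, rfl⟩)
  have hinj : Function.Injective φ := by
    rw [injective_iff_map_eq_zero]
    intro s hs
    have h1 : (s : R × k).1 = 0 := congrArg Subtype.val hs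
    have h2 := hS s.1 s.2 h1
    exact Subtype.ext (Prod.ext h1 h2)
  have hsurj : Function.Surjective φ := by
    rintro ⟨a, p, hp, rfl⟩
    exact ⟨⟨p, hp⟩, rfl⟩
  let e := AlgEquiv.ofBijective φ ⟨hinj, hsurj⟩
  refine ⟨((AlgHom.snd k R k).comp S.val).comp (e.symm : _ →ₐ[k] S), ?_⟩
  intro p hp
  have h1 : e.symm ⟨p.1, ⟨p, hp, rfl⟩⟩ = ⟨p, hp⟩ := by
    rw [AlgEquiv.symm_apply_eq]
    rfl
  show ((AlgHom.snd k R k).comp S.val) (e.symm ⟨p.1, ⟨p, hp, rfl⟩⟩) = p.2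
  rw [h1]
  rfl

end Graph

namespace Tors

variable {k : Type u} [Field k] {A : Type v} [CommRing A] [HopfAlgebra k A]
  {B : Type w} [CommRing B] [Algebra k B] (t : Tors k A B)

/-- admissible pairs: a sub-Hopf-algebra `A'` and the graph of a rational point of `B(A')` -/
def Adm : Set (Subalgebra k A × Subalgebra k (B × k)) :=
  {p | HS p.1 ∧ (∀ q ∈ p.2, q.1 = 0 → q.2 = 0) ∧ p.2.map (AlgHom.fst k B k) = t.Bs p.1}

lemma sup_mem_Adm (c : Set (Subalgebra k A × Subalgebra k (B × k))) (hcs : c ⊆ t.Adm)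
    (hc : IsChain (· ≤ ·) c) (p₀ : Subalgebra k A × Subalgebra k (B × k)) (hp₀ : p₀ ∈ c) :
    (sSup (Prod.fst '' c), sSup (Prod.snd '' c)) ∈ t.Adm := by
  have hc₁ : IsChain (· ≤ ·) (Prod.fst '' c) :=
    IsChain.image_of_map_rel (· ≤ ·) (· ≤ ·) Prod.fst
      (fun (x y : Subalgebra k A × Subalgebra k (B × k)) (h : x ≤ y) => h.1) hc
  have hc₂ : IsChain (· ≤ ·) (Prod.snd '' c) :=
    IsChain.image_of_map_rel (· ≤ ·) (· ≤ ·) Prod.snd
      (fun (x y : Subalgebra k A × Subalgebra k (B × k)) (h : x ≤ y) => h.2) hc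
  have hne₁ : (Prod.fst '' c).Nonempty := ⟨p₀.1, p₀, hp₀, rfl⟩
  have hne₂ : (Prod.snd '' c).Nonempty := ⟨p₀.2, p₀, hp₀, rfl⟩
  have hle₁ : ∀ p ∈ c, p.1 ≤ sSup (Prod.fst '' c) := fun p hp => le_sSup ⟨p, hp, rfl⟩
  have hle₂ : ∀ p ∈ c, p.2 ≤ sSup (Prod.snd '' c) := fun p hp => le_sSup ⟨p, hp, rfl⟩
  refine ⟨⟨?_, ?_⟩, ?_, ?_⟩
  · intro b hb
    obtain ⟨s, ⟨p, hp, rfl⟩, hbs⟩ := (PtExt.mem_sSup_of_chain _ hc₁ hne₁ b).mp hb
    exact range_map_val_mono (hle₁ p hp) ((hcs hp).1.1 b hbs)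
  · intro b hb
    obtain ⟨s, ⟨p, hp, rfl⟩, hbs⟩ := (PtExt.mem_sSup_of_chain _ hc₁ hne₁ b).mp hb
    exact (hle₁ p hp) ((hcs hp).1.2 b hbs)
  · intro q hq h0
    obtain ⟨S, ⟨p, hp, rfl⟩, hqS⟩ := (PtExt.mem_sSup_of_chain _ hc₂ hne₂ q).mp hq
    exact (hcs hp).2.1 q hqS h0
  · show (sSup (Prod.snd '' c)).map (AlgHom.fst k B k) = t.Bs (sSup (Prod.fst '' c))
    ext b
    constructor
    · rintro ⟨q, hq, rfl⟩
      obtain ⟨S, ⟨p, hp, rfl⟩, hqS⟩ := (PtExt.mem_sSup_of_chain _ hc₂ hne₂ q).mp hq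
      have h1 : (AlgHom.fst k B k) q ∈ p.2.map (AlgHom.fst k B k) := ⟨q, hqS, rfl⟩
      rw [(hcs hp).2.2] at h1
      exact t.Bs_mono (hle₁ p hp) h1
    · intro hb
      obtain ⟨s, ⟨p, hp, rfl⟩, hs⟩ := exists_mem_T_of_chain B _ hc₁ hne₁ (t.ρ b) hb
      have h1 : b ∈ t.Bs p.1 := hs
      rw [← (hcs hp).2.2] at h1
      obtain ⟨q, hq, rfl⟩ := h1
      exact ⟨q, (hle₂ p hp) hq, rfl⟩

include t in
/-- **An algebraic torsor over an algebraically closed field has a rational point.** -/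
theorem exists_point [IsAlgClosed k] [Nontrivial B] : Nonempty (B →ₐ[k] k) := by
  classical
  have h0 : ((⊥ : Subalgebra k A), (⊥ : Subalgebra k (B × k))) ∈ t.Adm := by
    refine ⟨HS_bot, ?_, ?_⟩
    · intro q hq h0
      obtain ⟨c, rfl⟩ := Algebra.mem_bot.mp hq
      have h1 : algebraMap k B c = 0 := h0
      have h2 : c = 0 := by
        rw [← map_zero (algebraMap k B)] at h1
        exact (algebraMap k B).injective h1
      rw [h2, map_zero]
      rfl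
    · show (⊥ : Subalgebra k (B × k)).map (AlgHom.fst k B k) = t.Bs ⊥
      rw [Algebra.map_bot, t.Bs_bot]
  obtain ⟨m, hm0, hmax⟩ := zorn_le_nonempty₀ t.Adm
    (fun c hcs hc p hp => ⟨(sSup (Prod.fst '' c), sSup (Prod.snd '' c)),
      t.sup_mem_Adm c hcs hc p hp,
      fun z hz => ⟨le_sSup ⟨z, hz, rfl⟩, le_sSup ⟨z, hz, rfl⟩⟩⟩) _ h0
  obtain ⟨A', S⟩ := m
  obtain ⟨hHS, hfun, hmap⟩ := hmax.prop
  have hmap' : S.map (AlgHom.fst k B k) = t.Bs A' := hmap
  have hHS' : HS A' := hHS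
  have hfun' : ∀ q ∈ S, q.1 = 0 → q.2 = 0 := hfun
  obtain ⟨f, hf⟩ := exists_ofGraph S hfun'
  have htop : A' = ⊤ := by
    by_contra hne
    obtain ⟨x, hx⟩ : ∃ x : A, x ∉ A' := by
      by_contra h
      push Not at h
      exact hne (eq_top_iff.mpr fun a _ => h a)
    obtain ⟨C₁, hxC₁, hfg, h1, h2⟩ :=
      Groth.Agent.Helper2.HopfFGU.exists_fg_hopf_subalgebra (k := k) x
    have hC₁ : HS C₁ := HS_of_isHopfSub C₁ h1 h2
    let y : t.Bs A' →ₐ[k] k := f.comp (Subalgebra.inclusion (le_of_eq hmap'.symm))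
    have hJ := t.map_ker_ne_top A' hHS' y
    obtain ⟨D, hDfg, hDle⟩ := t.exists_fg_Bs_sup_le A' C₁ hHS'.1 hfg
    obtain ⟨f', hf'⟩ := exists_extend_sup_of_ne_top (t.Bs A') D hDfg y hJ
    let y'' : t.Bs (A' ⊔ C₁) →ₐ[k] k := f'.comp (Subalgebra.inclusion hDle)
    have hS'' : ((A' ⊔ C₁ : Subalgebra k A), graph (t.Bs (A' ⊔ C₁)) y'') ∈ t.Adm := by
      refine ⟨HS_sup hHS' hC₁, ?_, ?_⟩
      · intro p hp h0
        obtain ⟨h, hff⟩ := mem_graph.mp hp
        rw [← hff]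
        have : (⟨p.1, h⟩ : t.Bs (A' ⊔ C₁)) = 0 := Subtype.ext h0
        rw [this, map_zero]
      · exact map_fst_graph _ _
    have hle : ((A', S) : Subalgebra k A × Subalgebra k (B × k)) ≤
        ((A' ⊔ C₁ : Subalgebra k A), graph (t.Bs (A' ⊔ C₁)) y'') := by
      refine ⟨le_sup_left, ?_⟩
      intro p hp
      have hb0 : p.1 ∈ S.map (AlgHom.fst k B k) := ⟨p, hp, rfl⟩
      have hb : p.1 ∈ t.Bs A' := by rw [← hmap']; exact hb0
      have hb2 : p.1 ∈ t.Bs (A' ⊔ C₁) := t.Bs_mono le_sup_left hb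
      rw [mem_graph]
      refine ⟨hb2, ?_⟩
      have e1 : Subalgebra.inclusion hDle ⟨p.1, hb2⟩ =
          Subalgebra.inclusion (le_sup_left : t.Bs A' ≤ t.Bs A' ⊔ D) ⟨p.1, hb⟩ := Subtype.ext rfl
      show f' (Subalgebra.inclusion hDle ⟨p.1, hb2⟩) = p.2
      rw [e1, hf']
      show f (Subalgebra.inclusion (le_of_eq hmap'.symm) ⟨p.1, hb⟩) = p.2
      exact hf p hp
    have hge := hmax.le_of_ge hS'' hle
    exact hx (hge.1 ((le_sup_right : C₁ ≤ A' ⊔ C₁) hxC₁))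
  have hall : ∀ b : B, (AlgHom.id k B) b ∈ (S.map (AlgHom.fst k B k) : Subalgebra k B) := by
    intro b
    rw [hmap', htop, t.Bs_top]
    exact Algebra.mem_top
  exact ⟨f.comp (AlgHom.codRestrict (AlgHom.id k B) _ hall)⟩

end Tors

end Groth.Agent.Lib.Helper6.PTors
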