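import Mathlib

/-!
# Torsors under affine group schemes over an algebraically closed field (helper6)

Part 6: abstract nonsense: transport of actions along isomorphisms, and pulling back an action
along a fully faithful monoidal functor between cartesian monoidal categories.
-/

set_option autoImplicit false
set_option linter.unusedSectionVars false
set_option linter.unusedVariables false
set_option linter.unusedSimpArgs false
set_option linter.style.haveILetI false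
set_option linter.overlappingInstances false
set_option maxHeartbeats 800000
set_option synthInstance.maxHeartbeats 400000

noncomputable section

namespace Groth.Agent.Lib.Helper6.PTors

open CategoryTheory MonoidalCategory CartesianMonoidalCategory MonObj
open Functor.LaxMonoidal Functor.OplaxMonoidal Functor.Monoidal

universe v₁ v₂ u₁ u₂

section Transport

variable {D : Type u₂} [Category.{v₂} D] [CartesianMonoidalCategory D]

/-- transport of an associative action along isomorphisms -/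
lemma act_transport {G₁ G P₁ P : D} [MonObj G₁] [MonObj G] (e : G₁ ≅ G) [IsMonHom e.hom]
    (eP : P₁ ≅ P) (act : G ⊗ P ⟶ P)
    (hmul : (μ[G] ▷ P) ≫ act = (α_ G G P).hom ≫ (G ◁ act) ≫ act) :
    (μ[G₁] ▷ P₁) ≫ ((e.hom ⊗ₘ eP.hom) ≫ act ≫ eP.inv) =
      (α_ G₁ G₁ P₁).hom ≫ (G₁ ◁ ((e.hom ⊗ₘ eP.hom) ≫ act ≫ eP.inv)) ≫
        ((e.hom ⊗ₘ eP.hom) ≫ act ≫ eP.inv) := by
  have h1 : (μ[G₁] ▷ P₁) ≫ (e.hom ⊗ₘ eP.hom) =
      ((e.hom ⊗ₘ e.hom) ⊗ₘ eP.hom) ≫ (μ[G] ▷ P) := by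
    ext
    · simp only [Category.assoc, tensorHom_fst, tensorHom_fst_assoc, whiskerRight_fst,
        whiskerRight_fst_assoc, IsMonHom.mul_hom]
    · simp only [Category.assoc, tensorHom_snd, tensorHom_snd_assoc, whiskerRight_snd,
        whiskerRight_snd_assoc]
  have h2 : (G₁ ◁ ((e.hom ⊗ₘ eP.hom) ≫ act ≫ eP.inv)) ≫ (e.hom ⊗ₘ eP.hom) =
      (e.hom ⊗ₘ (e.hom ⊗ₘ eP.hom)) ≫ (G ◁ act) := by
    ext
    · simp
    · simp
  calc (μ[G₁] ▷ P₁) ≫ ((e.hom ⊗ₘ eP.hom) ≫ act ≫ eP.inv)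
      = ((μ[G₁] ▷ P₁) ≫ (e.hom ⊗ₘ eP.hom)) ≫ act ≫ eP.inv := by simp only [Category.assoc]
    _ = ((e.hom ⊗ₘ e.hom) ⊗ₘ eP.hom) ≫ ((μ[G] ▷ P) ≫ act) ≫ eP.inv := by
        rw [h1]; simp only [Category.assoc]
    _ = ((e.hom ⊗ₘ e.hom) ⊗ₘ eP.hom) ≫ ((α_ G G P).hom ≫ (G ◁ act) ≫ act) ≫ eP.inv := by
        rw [hmul]
    _ = (α_ G₁ G₁ P₁).hom ≫ ((e.hom ⊗ₘ (e.hom ⊗ₘ eP.hom)) ≫ (G ◁ act)) ≫ act ≫ eP.inv := by
        simp only [Category.assoc]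
        rw [associator_naturality_assoc]
    _ = _ := by rw [← h2]; simp only [Category.assoc]

/-- transport of the torsor morphism along isomorphisms -/
lemma isIso_lift_transport {G₁ G P₁ P : D} (e : G₁ ≅ G) (eP : P₁ ≅ P) (act : G ⊗ P ⟶ P)
    (h : IsIso (lift act (snd G P))) :
    IsIso (lift ((e.hom ⊗ₘ eP.hom) ≫ act ≫ eP.inv) (snd G₁ P₁)) := by
  have h1 : lift ((e.hom ⊗ₘ eP.hom) ≫ act ≫ eP.inv) (snd G₁ P₁) =
      (e.hom ⊗ₘ eP.hom) ≫ lift act (snd G P) ≫ (eP.inv ⊗ₘ eP.inv) := by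
    ext
    · simp
    · simp
  rw [h1]
  infer_instance

end Transport

section Pullback

open scoped Obj

variable {C : Type u₁} [Category.{v₁} C] [CartesianMonoidalCategory C]
  {D : Type u₂} [Category.{v₂} D] [CartesianMonoidalCategory D]
  (F : C ⥤ D) [F.Monoidal] [F.Full] [F.Faithful]

/-- pulling back an associative action along a fully faithful monoidal functor -/
lemma exists_act_pullback (G₀ X₀ : C) [MonObj G₀] (act' : F.obj G₀ ⊗ F.obj X₀ ⟶ F.obj X₀)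
    (hmul : (μ[F.obj G₀] ▷ F.obj X₀) ≫ act' =
      (α_ (F.obj G₀) (F.obj G₀) (F.obj X₀)).hom ≫ (F.obj G₀ ◁ act') ≫ act') :
    ∃ act₀ : G₀ ⊗ X₀ ⟶ X₀, F.map act₀ = δ F G₀ X₀ ≫ act' ∧
      (μ[G₀] ▷ X₀) ≫ act₀ = (α_ G₀ G₀ X₀).hom ≫ (G₀ ◁ act₀) ≫ act₀ := by
  refine ⟨F.preimage (δ F G₀ X₀ ≫ act'), F.map_preimage _, ?_⟩
  set act₀ := F.preimage (δ F G₀ X₀ ≫ act') with hact₀
  have hmap : F.map act₀ = δ F G₀ X₀ ≫ act' := F.map_preimage _
  have hμ : F.map μ[G₀] = δ F G₀ G₀ ≫ μ[F.obj G₀] := by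
    rw [Functor.obj.μ_def, δ_μ_assoc]
  apply F.map_injective
  rw [F.map_comp, F.map_comp, F.map_comp, hmap]
  calc F.map (μ[G₀] ▷ X₀) ≫ δ F G₀ X₀ ≫ act'
      = δ F (G₀ ⊗ G₀) X₀ ≫ (F.map μ[G₀] ▷ F.obj X₀) ≫ act' := by
        rw [← δ_natural_left_assoc]
    _ = δ F (G₀ ⊗ G₀) X₀ ≫ (δ F G₀ G₀ ▷ F.obj X₀) ≫ (μ[F.obj G₀] ▷ F.obj X₀) ≫ act' := by
        rw [hμ, comp_whiskerRight, Category.assoc]
    _ = (δ F (G₀ ⊗ G₀) X₀ ≫ (δ F G₀ G₀ ▷ F.obj X₀) ≫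
          (α_ (F.obj G₀) (F.obj G₀) (F.obj X₀)).hom) ≫ (F.obj G₀ ◁ act') ≫ act' := by
        rw [hmul]; simp only [Category.assoc]
    _ = (F.map (α_ G₀ G₀ X₀).hom ≫ δ F G₀ (G₀ ⊗ X₀) ≫ F.obj G₀ ◁ δ F G₀ X₀) ≫
          (F.obj G₀ ◁ act') ≫ act' := by
        rw [Functor.OplaxMonoidal.associativity]
    _ = F.map (α_ G₀ G₀ X₀).hom ≫ δ F G₀ (G₀ ⊗ X₀) ≫ (F.obj G₀ ◁ F.map act₀) ≫ act' := by
        rw [hmap, MonoidalCategory.whiskerLeft_comp]; simp only [Category.assoc]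
    _ = F.map (α_ G₀ G₀ X₀).hom ≫ F.map (G₀ ◁ act₀) ≫ δ F G₀ X₀ ≫ act' := by
        rw [δ_natural_right_assoc]

/-- the torsor morphism of the pulled back action -/
lemma isIso_lift_pullback (G₀ X₀ : C) (act' : F.obj G₀ ⊗ F.obj X₀ ⟶ F.obj X₀)
    (act₀ : G₀ ⊗ X₀ ⟶ X₀) (hmap : F.map act₀ = δ F G₀ X₀ ≫ act')
    (h : IsIso (lift act' (snd (F.obj G₀) (F.obj X₀)))) : IsIso (lift act₀ (snd G₀ X₀)) := by
  have h1 : F.map (lift act₀ (snd G₀ X₀)) ≫ δ F X₀ X₀ =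
      δ F G₀ X₀ ≫ lift act' (snd (F.obj G₀) (F.obj X₀)) := by
    rw [lift_δ, hmap]
    ext
    · simp
    · simp
  have h2 : F.map (lift act₀ (snd G₀ X₀)) =
      δ F G₀ X₀ ≫ lift act' (snd (F.obj G₀) (F.obj X₀)) ≫ «μ» F X₀ X₀ := by
    rw [← Category.assoc, ← h1, Category.assoc, δ_μ, Category.comp_id]
  have h3 : IsIso (F.map (lift act₀ (snd G₀ X₀))) := by
    rw [h2]
    infer_instance
  exact isIso_of_fully_faithful F _

end Pullback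

end Groth.Agent.Lib.Helper6.PTors
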