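import Mathlib
import Groth.Prelude.Def_NonAbH2
import Groth.Agent.Lib.Helper6.PTors.PT5
import Groth.Agent.Lib.Helper6.PTors.PT6
import Groth.Agent.Lib.Helper6.PtExt.PEd

/-!
# Torsors under affine group schemes over an algebraically closed field (helper6)

Part 7: an affine nonempty pseudo-torsor under an affine group scheme over an algebraically
closed field has a rational point (translation to the algebraic statement).
-/

set_option autoImplicit false
set_option linter.unusedSectionVars false
set_option linter.unusedVariables false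
set_option linter.unusedSimpArgs false
set_option linter.style.haveILetI false
set_option linter.overlappingInstances false
set_option maxHeartbeats 800000
set_option synthInstance.maxHeartbeats 400000

noncomputable section

namespace Groth.Agent.Lib.Helper6.PTors

open CategoryTheory MonoidalCategory CartesianMonoidalCategory MonObj GrpObj AlgebraicGeometry
  Opposite TensorProduct
open Functor.LaxMonoidal Functor.OplaxMonoidal Functor.Monoidal
open scoped Obj

universe u

variable (k : Type u) [Field k]

/-- instance search does not find these for `CommRingCat.of k` -/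
local instance instBraidedAlgSpec : (algSpec (CommRingCat.of k)).Braided := braidedAlgSpec
local instance instFullAlgSpec : (algSpec (CommRingCat.of k)).Full := algSpec.instFull
local instance instFaithfulAlgSpec : (algSpec (CommRingCat.of k)).Faithful := algSpec.instFaithful

theorem exists_point_of_affine [IsAlgClosed k] (G P : Over (Spec (CommRingCat.of k))) [GrpObj G]
    [IsAffine G.left] [IsAffine P.left] [Nonempty P.left] (a : AlgGrp.Action G P)
    (hP : NonAbH1.IsPseudoTorsorSch a) :
    Nonempty (𝟙_ (Over (Spec (CommRingCat.of k))) ⟶ P) := by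
  have h : (hopfSpec (CommRingCat.of k)).essImage (Grp.mk G) := by
    rw [essImage_hopfSpec]
    infer_instance
  obtain ⟨Hop, ⟨e⟩⟩ := h
  have hP' : (algSpec (CommRingCat.of k)).essImage P := by
    rw [essImage_algSpec]
    infer_instance
  obtain ⟨Bop, ⟨eP⟩⟩ := hP'
  let Hh : (CommAlgCat k)ᵒᵖ := op (CommAlgCat.of k Hop.unop)
  let e₀ : (algSpec (CommRingCat.of k)).obj Hh ≅ G := (Grp.forget _).mapIso e
  haveI : IsMonHom e₀.hom := (inferInstance : IsMonHom e.hom.hom.hom)
  have hmul₁ := act_transport e₀ eP a.act a.mul_act
  have hiso₁ := isIso_lift_transport e₀ eP a.act hP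
  obtain ⟨act₀, hmap, hmul₀⟩ := exists_act_pullback (algSpec (CommRingCat.of k)) Hh Bop
    ((e₀.hom ⊗ₘ eP.hom) ≫ a.act ≫ eP.inv) hmul₁
  have hiso₀ := isIso_lift_pullback (algSpec (CommRingCat.of k)) Hh Bop
    ((e₀.hom ⊗ₘ eP.hom) ≫ a.act ≫ eP.inv) act₀ hmap hiso₁
  -- the algebraic torsor
  let ρ : Bop.unop →ₐ[k] Hop.unop ⊗[k] Bop.unop := act₀.unop.hom
  have h1 := congrArg (fun f => f.unop.hom) hmul₀
  have hco : ∀ b : Bop.unop, (Algebra.TensorProduct.map (Bialgebra.comulAlgHom k Hop.unop)
      (AlgHom.id k Bop.unop)) (ρ b) =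
      (Algebra.TensorProduct.assoc k k k Hop.unop Hop.unop Bop.unop).symm
        ((Algebra.TensorProduct.map (AlgHom.id k Hop.unop) ρ) (ρ b)) := by
    intro b
    exact AlgHom.congr_fun h1 b
  have hbij : Function.Bijective (Algebra.TensorProduct.lift ρ
      (Algebra.TensorProduct.includeRight : Bop.unop →ₐ[k] Hop.unop ⊗[k] Bop.unop)
      (fun _ _ => Commute.all _ _)) := by
    have h2 : IsIso (lift act₀ (snd Hh Bop)).unop := inferInstance
    exact (ConcreteCategory.isIso_iff_bijective (lift act₀ (snd Hh Bop)).unop).mp h2
  let t : Tors k Hop.unop Bop.unop :=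
    { ρ := ρ
      coassoc := by
        intro b
        rw [hco b]
        exact AlgEquiv.apply_symm_apply _ _
      bij := hbij }
  haveI : Nontrivial Bop.unop := by
    by_contra hnt
    rw [not_nontrivial_iff_subsingleton] at hnt
    obtain ⟨x⟩ := (inferInstance : Nonempty P.left)
    have y : ((algSpec (CommRingCat.of k)).obj Bop).left := eP.inv.left.base x
    have y' : PrimeSpectrum Bop.unop := y
    exact (inferInstance : IsEmpty (PrimeSpectrum Bop.unop)).false y'
  obtain ⟨y⟩ := t.exists_point
  exact ⟨(PtExt.ptOfAlgHom k y : 𝟙_ _ ⟶ (algSpec (CommRingCat.of k)).obj Bop) ≫ eP.hom⟩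

end Groth.Agent.Lib.Helper6.PTors
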