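import Mathlib
import Groth.Prelude.Def_NonAbH2
import Groth.Agent.Lib.Helper6.PTors.PT7
import Groth.Agent.Lib.Helper7.AffDesc
import Groth.Agent.Lib.Helper5.SGA1.QCDesc
import Groth.Agent.Lib.Helper4.TorsFC2

/-!
# Torsors under affine group schemes over an algebraically closed field (helper6)

Part 8: a nonempty pseudo-torsor under an affine group scheme over a field is affine; every fpqc
torsor under an affine group scheme over an algebraically closed field is trivial.
-/

set_option autoImplicit false
set_option linter.unusedSectionVars false
set_option linter.unusedVariables false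
set_option linter.unusedSimpArgs false
set_option linter.style.haveILetI false
set_option linter.overlappingInstances false
set_option maxHeartbeats 800000
set_option synthInstance.maxHeartbeats 400000

noncomputable section

namespace Groth.Agent.Lib.Helper6.PTors

open CategoryTheory CategoryTheory.Limits MonoidalCategory CartesianMonoidalCategory MonObj GrpObj
  AlgebraicGeometry Opposite

universe u

variable (k : Type u) [Field k]

/-- a nonempty pseudo-torsor under an affine group scheme over a field is affine -/
theorem isAffine_of_pseudoTorsor (G P : Over (Spec (CommRingCat.of k))) [GrpObj G]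
    [IsAffine G.left] [Nonempty P.left] (a : AlgGrp.Action G P)
    (hP : NonAbH1.IsPseudoTorsorSch a) : IsAffine P.left := by
  haveI hτiso : IsIso (lift a.act (snd G P)) := hP
  have hτ : (lift a.act (snd G P)).left ≫ pullback.snd P.hom P.hom = pullback.snd G.hom P.hom := by
    have h1 := congrArg (fun f => f.left) (lift_snd a.act (snd G P))
    exact h1
  haveI : IsIso (lift a.act (snd G P)).left :=
    (inferInstance : IsIso ((Over.forget _).map (lift a.act (snd G P))))
  haveI hG : IsAffineHom G.hom := isAffineHom_of_isAffine _
  haveI h1 : IsAffineHom (pullback.snd G.hom P.hom) :=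
    MorphismProperty.pullback_snd (P := @IsAffineHom) _ _ hG
  have h2 : IsAffineHom (pullback.snd P.hom P.hom) := by
    have h : pullback.snd P.hom P.hom =
        inv (lift a.act (snd G P)).left ≫ pullback.snd G.hom P.hom := by
      rw [IsIso.eq_inv_comp, hτ]
    rw [h]
    infer_instance
  obtain ⟨p⟩ := (inferInstance : Nonempty P.left)
  obtain ⟨q, hq⟩ := P.left.affineCover.covers p
  let j := P.left.affineCover.f (P.left.affineCover.idx p)
  let g := j ≫ P.hom
  haveI : Flat g := inferInstance
  haveI : Surjective g := ⟨fun y => ⟨q, Subsingleton.elim _ _⟩⟩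
  haveI : QuasiCompact g := (quasiCompact_iff_compactSpace g).mpr inferInstance
  haveI h3 : IsAffineHom (pullback.snd P.hom g) := by
    have h : pullback.snd P.hom (j ≫ P.hom) =
        (pullbackLeftPullbackSndIso P.hom P.hom j).inv ≫
          pullback.snd (pullback.snd P.hom P.hom) j := by
      rw [Iso.eq_inv_comp, pullbackLeftPullbackSndIso_hom_snd]
    show IsAffineHom (pullback.snd P.hom (j ≫ P.hom))
    rw [h]
    infer_instance
  haveI hdesc := Groth.Agent.Helper5.QCDesc.s5132.{u}
  haveI : QuasiCompact P.hom :=
    MorphismProperty.of_pullback_snd_of_descendsAlong (P := @QuasiCompact)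
      (Q := @Surjective ⊓ @QuasiCompact) (f := P.hom) (g := g)
      ⟨inferInstance, inferInstance⟩ inferInstance
  haveI : QuasiSeparated P.hom := by
    have h : MorphismProperty.diagonal @QuasiCompact P.hom :=
      MorphismProperty.of_pullback_snd_of_descendsAlong
        (P := MorphismProperty.diagonal @QuasiCompact)
        (Q := @Surjective ⊓ @QuasiCompact) (f := P.hom) (g := g)
        ⟨inferInstance, inferInstance⟩
        (by
          rw [← quasiSeparated_eq_diagonal_is_quasiCompact]
          infer_instance)
    rw [quasiSeparated_eq_diagonal_is_quasiCompact]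
    exact h
  exact Groth.Agent.Helper7.AffDesc.isAffine_of_affine_base P.hom g

/-- **every fpqc torsor under an affine group scheme over an algebraically closed field is
trivial** -/
theorem exists_point_of_torsor [IsAlgClosed k] (G : Over (Spec (CommRingCat.of k))) [GrpObj G]
    [IsAffine G.left] (P : Over (Spec (CommRingCat.of k))) (a : AlgGrp.Action G P)
    (hP : NonAbH1.IsTorsorFor Scheme.fpqcPrecoverage a) :
    Nonempty (𝟙_ (Over (Spec (CommRingCat.of k))) ⟶ P) := by
  obtain ⟨hps, R, hR, hsec⟩ := hP
  have hR' : R ∈ Scheme.precoverage @Flat (Spec (CommRingCat.of k)) := hR.2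
  obtain ⟨U, f, hRf, -, ⟨u0, hu0⟩⟩ :=
    Groth.Agent.Lib.Helper4.TorsFC2.exists_member_of_mem_precoverage _ hR'
      (default : Spec (CommRingCat.of k))
  obtain ⟨s, hs⟩ := hsec f hRf
  haveI : Nonempty P.left := ⟨s.base u0⟩
  haveI : IsAffine P.left := isAffine_of_pseudoTorsor k G P a hps
  exact exists_point_of_affine k G P a hps

end Groth.Agent.Lib.Helper6.PTors
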